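import Cfsg.Agent.Lib.Fischer.Fi22Type.Action
import Cfsg.Agent.Lib.Fischer.Fi23Type.Data

/-!
# The eight permutations of the certificate
-/

set_option autoImplicit false
set_option maxRecDepth 100000

namespace Cfsg.Lib.Fischer.Fi23Type

theorem genPerm_invol : ∀ k < 8, ∀ i < 351, look 13 (genPerm.getD k []) i < 351 ∧
    look 13 (genPerm.getD k []) (look 13 (genPerm.getD k []) i) = i := by decide +kernel

/-- The permutations. -/
def gperm (k : Fin 8) : Equiv.Perm (Fin 351) :=
  Function.Involutive.toPerm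
    (fun i => ⟨look 13 (genPerm.getD k.val []) i.val, (genPerm_invol k k.2 i i.2).1⟩)
    fun i => Fin.ext (genPerm_invol k k.2 i i.2).2

theorem gperm_val (k : Fin 8) (i : Fin 351) : (gperm k i).val = look 13 (genPerm.getD k.val []) i.val := rfl

theorem genIdx_lt : ∀ k < 8, genIdx.getD k 0 < 351 := by decide +kernel

/-- The places of the generators. -/
def gidx (k : Fin 8) : Fin 351 := ⟨genIdx.getD k.val 0, genIdx_lt k k.2⟩

theorem parents : ∀ i < 350, look 13 parentTab i / 8 ≤ i ∧
    look 13 (genPerm.getD (look 13 parentTab i % 8) []) (look 13 parentTab i / 8) = i + 1 := by decide +kernel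

theorem gperm_parent (i : Fin 351) (h : 0 < i.val) :
    ∃ k j, (j : Fin 351).val < i.val ∧ gperm k j = i := by
  obtain ⟨hle, he⟩ := parents (i.val - 1) (by omega)
  refine ⟨⟨look 13 parentTab (i.val - 1) % 8, Nat.mod_lt _ (by norm_num)⟩,
    ⟨look 13 parentTab (i.val - 1) / 8, by omega⟩, by show _ / 8 < _; omega, Fin.ext ?_⟩
  rw [gperm_val]
  show look 13 (genPerm.getD (look 13 parentTab (i.val - 1) % 8) []) (look 13 parentTab (i.val - 1) / 8) = i.val
  omega

theorem gidx_zero : gidx ⟨0, by norm_num⟩ = ⟨0, by norm_num⟩ := by decide +kernel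

end Cfsg.Lib.Fischer.Fi23Type
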