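import Cfsg.Agent.Lib.CosetEnum.Trans.Defs
import Cfsg.Agent.Lib.CosetEnum.Fi23Fi22.Data
import Cfsg.Agent.Lib.CosetEnum.Fi23Out.Data
import Cfsg.Agent.Lib.Fischer.Fi23Type.Data

/-!
# The common neighbours of the first two generators in the table of Fi23
-/

set_option autoImplicit false
set_option maxRecDepth 100000

namespace Cfsg.Lib.Fischer.Fi23Type

open Cfsg.Lib.CosetEnum Cfsg.Lib.CosetEnum.Fi23Fi22

/-- The conditions for a common neighbour. -/
def commonConds : List (List Nat × Bool) := [([0], true), ([1], true)]

/-- The two points themselves are excluded. -/
noncomputable def isPoint (q : Nat) : Bool := Nat.beq q 11589 || Nat.beq q 8004 || elemN pointTab.flatten q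

/-- The listed points meet the conditions and the generators move them as listed. -/
noncomputable def pointsOK : Bool :=
  (List.range 351).all fun i => Nat.blt (look 13 pointTab i) 31671 && !(Nat.beq (look 13 pointTab i) 11589) &&
    !(Nat.beq (look 13 pointTab i) 8004) && condsB tabP 10 commonConds (look 13 pointTab i)

theorem points_ok : pointsOK = true := by decide +kernel

theorem points_nodup : pointTab.flatten.Nodup := by decide +kernel

theorem points_flat : pointTab.flatten.length = 351 ∧ ∀ i < 351, pointTab.flatten.getD i 0 = look 13 pointTab i := by
  decide +kernel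

theorem points_scan0 : scanOK tabP 10 commonConds isPoint 8000 0 = true := by decide +kernel

theorem points_scan1 : scanOK tabP 10 commonConds isPoint 8000 8000 = true := by decide +kernel

theorem points_scan2 : scanOK tabP 10 commonConds isPoint 8000 16000 = true := by decide +kernel

theorem points_scan3 : scanOK tabP 10 commonConds isPoint 7671 24000 = true := by decide +kernel

/-- The generators permute the points as listed. -/
noncomputable def pointPermOK : Bool :=
  (List.range 8).all fun k => (genWords.getD k []).all (fun g => Nat.blt g 10) &&
    (List.range 351).all fun i =>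
      Nat.beq (twalk tabP 10 (genWords.getD k []) (look 13 pointTab i))
        (look 13 pointTab (look 13 (genPerm.getD k []) i))

theorem pointPerm_ok : pointPermOK = true := by decide +kernel

theorem gen_words : (∀ k < 7, ∃ g < 10, genWords.getD k [] = [g] ∧
      Fi23Out.pts.getD g 0 = look 13 pointTab (genIdx.getD k 0)) ∧
    genWords.getD 7 [] = conjWord lastMove ∧
      twalk tabP 10 lastMove (Fi23Out.pts.getD 0 0) = look 13 pointTab (genIdx.getD 7 0) := by decide +kernel

theorem lastMove_lt : ∀ g ∈ lastMove, g < 10 := by decide

end Cfsg.Lib.Fischer.Fi23Type
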