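import Cfsg.Agent.Lib.CosetEnum.Trans.Basic
import Cfsg.Agent.Lib.Fischer.Fi23Type.PointChecks
import Cfsg.Agent.Lib.Fischer.Fi23Type.Perms
import Cfsg.Agent.Lib.Fischer.Module

/-!
# The common neighbours of two transpositions of Fi23 as a permutation group of 351 places
-/

set_option autoImplicit false
set_option maxRecDepth 100000

namespace Cfsg.Lib.Fischer.Fi23Type

open Cfsg.Lib.CosetEnum
open Cfsg.Lib.CosetEnum.Fi23Fi22 (tabP)
open Cfsg.Lib.Fischer.Fi22Type (closure_range_lift closure_family_eq quot_center_perm)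

variable {G : Type*} [Group G]

theorem point_spec (i : Fin 351) : look 13 pointTab i.val < 31671 ∧ look 13 pointTab i.val ≠ 11589 ∧
    look 13 pointTab i.val ≠ 8004 ∧ condsB tabP 10 commonConds (look 13 pointTab i.val) = true := by
  have h := points_ok
  simp only [pointsOK, List.all_eq_true, List.mem_range, Bool.and_eq_true, Nat.blt_eq, Bool.not_eq_true'] at h
  obtain ⟨⟨⟨h1, h2⟩, h3⟩, h4⟩ := h i.val i.2
  exact ⟨h1, fun e => by simp [e] at h2, fun e => by simp [e] at h3, h4⟩

/-- The point at a place. -/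
def pointAt (i : Fin 351) : Fin 31671 := ⟨look 13 pointTab i.val, (point_spec i).1⟩

theorem pointAt_injective : Function.Injective pointAt := by
  intro i j h
  obtain ⟨hl, hg⟩ := points_flat
  have hv : pointTab.flatten.getD i.val 0 = pointTab.flatten.getD j.val 0 := by
    rw [hg _ i.2, hg _ j.2]; exact congrArg Fin.val h
  rw [List.getD_eq_getElem _ _ (hl.symm ▸ i.2), List.getD_eq_getElem _ _ (hl.symm ▸ j.2)] at hv
  exact Fin.ext (points_nodup.getElem_inj_iff.1 hv)

theorem common_quot (A : TransTable G 31671) (hZ : A.Z = tabP) (hk : A.k = 10)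
    (hp : A.pts = Fi23Out.pts) :
    Nonempty (↥(Subgroup.closure (perp (conjugatesOf A.d) (A.x 0) ∩ perp (conjugatesOf A.d) (A.x 1))) ⧸
      Subgroup.center ↥(Subgroup.closure (perp (conjugatesOf A.d) (A.x 0) ∩ perp (conjugatesOf A.d) (A.x 1)))
        ≃* ↥(Subgroup.closure (Set.range gperm))) := by
  have hx : ∀ g, g < 10 → ∀ q : Fin 31671, q.val = Fi23Out.pts.getD g 0 → A.delta q = A.x g := fun g hg q hq => by
    rw [← A.delta_pts (hk.symm ▸ hg : g < A.k)]
    exact congrArg A.delta (Fin.ext (hq.trans (congrArg (fun l : List ℕ => l.getD g 0) hp.symm)))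
  have hpts : Fi23Out.pts.getD 0 0 = 11589 ∧ Fi23Out.pts.getD 1 0 = 8004 := by decide
  have hfix : ∀ g, g < 10 → ∀ q : Fin 31671,
      (Commute (A.x g) (A.delta q) ↔ twalk tabP 10 [g] q.val = q.val) := fun g hg q => by
    rw [commute_iff_eq, A.commute_gen_iff (hk.symm ▸ hg), hZ, hk]
  let el : Fin 351 → G := fun i => A.delta (pointAt i)
  have hS : perp (conjugatesOf A.d) (A.x 0) ∩ perp (conjugatesOf A.d) (A.x 1) = Set.range el := by
    ext y
    constructor
    · rintro ⟨⟨hyD, hne0, hc0⟩, -, hne1, hc1⟩
      obtain ⟨q, rfl⟩ := (A.isConj_iff_exists y).1 hyD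
      have hq : condsB tabP 10 commonConds q.val = true := by
        rw [condsB_iff]
        intro c hc
        simp only [commonConds, List.mem_cons, List.not_mem_nil, or_false] at hc
        rcases hc with rfl | rfl
        · simp [(hfix 0 (by norm_num) q).1 hc0]
        · simp [(hfix 1 (by norm_num) q).1 hc1]
      have hm : isPoint q.val = true := by
        by_cases h1 : q.val < 8000
        · exact scanOK_get points_scan0 q.val (Nat.zero_le _) (by omega) hq
        by_cases h2 : q.val < 16000
        · exact scanOK_get points_scan1 q.val (by omega) (by omega) hq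
        by_cases h3 : q.val < 24000
        · exact scanOK_get points_scan2 q.val (by omega) (by omega) hq
        · exact scanOK_get points_scan3 q.val (by omega) (by omega) hq
      simp only [isPoint, Bool.or_eq_true, Nat.beq_eq] at hm
      rcases hm with (h | h) | h
      · exact absurd (hx 0 (by norm_num) q (h.trans hpts.1.symm)) hne0
      · exact absurd (hx 1 (by norm_num) q (h.trans hpts.2.symm)) hne1
      obtain ⟨i, hi, he⟩ := List.getElem_of_mem (elemN_iff.1 h)
      obtain ⟨hl, hg⟩ := points_flat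
      refine ⟨⟨i, hl ▸ hi⟩, congrArg A.delta (Fin.ext ?_)⟩
      show look 13 pointTab i = q.val
      rw [← hg i (hl ▸ hi), List.getD_eq_getElem _ _ hi, he]
    · rintro ⟨i, rfl⟩
      obtain ⟨-, h0, h2, hc⟩ := point_spec i
      rw [condsB_iff] at hc
      have hD : el i ∈ conjugatesOf A.d := (A.isConj_iff_exists _).2 ⟨_, rfl⟩
      refine ⟨⟨hD, fun e => h0 ?_, ?_⟩, hD, fun e => h2 ?_, ?_⟩
      · have := A.delta_injective (e.trans (hx 0 (by norm_num) ⟨11589, by norm_num⟩ hpts.1.symm).symm)
        exact congrArg Fin.val this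
      · exact (hfix 0 (by norm_num) (pointAt i)).2 ((hc ([0], true) (by simp [commonConds])).2 rfl)
      · have := A.delta_injective (e.trans (hx 1 (by norm_num) ⟨8004, by norm_num⟩ hpts.2.symm).symm)
        exact congrArg Fin.val this
      · exact (hfix 1 (by norm_num) (pointAt i)).2 ((hc ([1], true) (by simp [commonConds])).2 rfl)
  obtain ⟨gw, gl, ge⟩ := gen_words
  have hgenw : ∀ k : Fin 8, el (gidx k) = wordVal A.x (genWords.getD k.val []) := by
    intro k
    rcases Nat.lt_or_ge k.val 7 with h | h
    · obtain ⟨g, hg, hw, he⟩ := gw k.val h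
      rw [hw, A.wordVal_singleton (hk.symm ▸ hg)]
      exact hx g hg _ he.symm
    · have hk7 : k.val = 7 := by omega
      have hlt : ∀ g ∈ lastMove, g < A.k := by rw [hk]; exact lastMove_lt
      rw [hk7, gl, ← A.delta_conjWord (by omega) hlt]
      refine congrArg A.delta (Fin.ext ?_)
      show look 13 pointTab (genIdx.getD k.val 0) = twalk A.Z A.k lastMove (A.pts.getD 0 0)
      rw [hk7, hZ, hk, hp, ge]
  have hconj : ∀ k i, el (gidx k) * el i * (el (gidx k))⁻¹ = el (gperm k i) := by
    intro k i
    rw [hgenw]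
    show _ * A.delta (pointAt i) * _ = A.delta (pointAt (gperm k i))
    rw [← A.delta_apply]
    refine congrArg A.delta (Fin.ext ?_)
    have h := pointPerm_ok
    simp only [pointPermOK, List.all_eq_true, List.mem_range, Bool.and_eq_true, Nat.blt_eq] at h
    obtain ⟨hw, hi⟩ := h k.val k.2
    rw [A.walk_apply (fun g hg => hk.symm ▸ hw g hg), hZ, hk]
    exact Nat.eq_of_beq_eq_true (hi i.val i.2)
  rw [hS]
  let el' : Fin 351 → ↥(Subgroup.closure (Set.range el)) := fun i =>
    ⟨el i, Subgroup.subset_closure ⟨i, rfl⟩⟩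
  have hel : Subgroup.closure (Set.range el') = ⊤ := closure_range_lift el rfl
  have hp' : ∀ k i, el' (gidx k) * el' i * (el' (gidx k))⁻¹ = el' (gperm k i) := fun k i =>
    Subtype.ext (hconj k i)
  have hgen : Subgroup.closure (Set.range (el' ∘ gidx)) = ⊤ :=
    (closure_family_eq el' (by norm_num) gidx gperm
      (Subgroup.subset_closure ⟨⟨0, by norm_num⟩, congrArg el' gidx_zero⟩) hp' gperm_parent).trans hel
  exact quot_center_perm el'
    (fun i j h => pointAt_injective (A.delta_injective (congrArg Subtype.val h))) hel (el' ∘ gidx) hgen gperm hp'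

end Cfsg.Lib.Fischer.Fi23Type
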