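import Cfsg.Agent.Lib.Fischer.Fi23Type.Form
import Cfsg.Agent.Lib.Fischer.Fi23Type.Perms

/-!
# The projective reflection group as a permutation group of 351 places
-/

set_option autoImplicit false
set_option maxRecDepth 100000

namespace Cfsg.Lib.Fischer.Fi23Type

open Cfsg.Lib.Linear.Orth
open Cfsg.Lib.Fischer.Fi22Type (closure_range_lift closure_family_eq quot_center_perm)
open scoped Matrix

theorem lineVec_spec (i : Fin 351) : qPath (lineVec i.val) = 1 ∧
    placeOf (lineVec i.val) = i.val + 1 ∧ placeOf (-lineVec i.val) = i.val + 1 := by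
  have h := lineList_ok
  simp only [lineListOK, List.all_eq_true, List.mem_range, Bool.and_eq_true, beq_iff_eq, Nat.beq_eq] at h
  obtain ⟨⟨h1, h2⟩, h3⟩ := h i.val i.2
  exact ⟨h1, h2, h3⟩

theorem lineVec_ne (i : Fin 351) : qPath (lineVec i.val) ≠ 0 := by
  rw [(lineVec_spec i).1]; exact one_ne_zero

/-- The reflection at a place. -/
noncomputable def reflAt (i : Fin 351) : ↥(Cfsg.isometryGroup (ZMod 3) qPath) :=
  rI space (lineVec i.val) (lineVec_ne i)

theorem reflAt_val (i : Fin 351) :
    (reflAt i : GL (Fin 7) (ZMod 3)) = rGL qPath (lineVec i.val) := rI_val space (lineVec_ne i)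

theorem reflAt_injective : Function.Injective reflAt := by
  intro i j h
  have hg : rGL qPath (lineVec i.val) = rGL qPath (lineVec j.val) := by
    rw [← reflAt_val, ← reflAt_val, h]
  have hv := rGL_self space (lineVec_ne i)
  rw [hg, rGL_act space (lineVec_ne j), (lineVec_spec j).1, inv_one, one_mul] at hv
  generalize bLin (lineVec j.val) (lineVec i.val) = s at hv
  have key : ∀ s a b : ZMod 3, a - s * b = -a → a = -(s * b) := by decide
  have hs : ∀ k, lineVec i.val k = -(s * lineVec j.val k) := fun k => key _ _ _ (congrFun hv k)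
  have hs0 : s ≠ 0 := by
    rintro rfl
    refine lineVec_ne i ?_
    rw [show lineVec i.val = 0 from funext fun k => by simpa using hs k, space.zero]
  refine Fin.ext (Nat.succ_injective ?_)
  show i.val + 1 = j.val + 1
  rcases (show ∀ t : ZMod 3, t ≠ 0 → t = 1 ∨ t = -1 by decide) s hs0 with rfl | rfl
  · rw [← (lineVec_spec i).2.1, ← (lineVec_spec j).2.2]
    exact congrArg placeOf (funext fun k => by simpa using hs k)
  · rw [← (lineVec_spec i).2.1, ← (lineVec_spec j).2.1]
    exact congrArg placeOf (funext fun k => by simpa using hs k)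

theorem reflAt_conj (k : Fin 8) (i : Fin 351) :
    reflAt (gidx k) * reflAt i * (reflAt (gidx k))⁻¹ = reflAt (gperm k i) := by
  have h := reflPerm_ok
  simp only [reflPermOK, List.all_eq_true, List.mem_range] at h
  have h' := eqLine_iff.1 (h k.val k.2 i.val i.2)
  refine Subtype.ext ?_
  push_cast
  rw [reflAt_val, reflAt_val, reflAt_val, rGL_conj space (lineVec_ne i) (rGL_mem space (lineVec_ne (gidx k))),
    rGL_act space (lineVec_ne (gidx k)), (lineVec_spec (gidx k)).1, inv_one, one_mul]
  have he : lineVec i.val - bLin (lineVec (gidx k).val) (lineVec i.val) • lineVec (gidx k).val =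
      reflOne (genVec k.val) (lineVec i.val) := funext fun j => rfl
  rw [he, gperm_val]
  rcases h' with e | e
  · rw [e]
  · rw [e, ← neg_one_smul (ZMod 3), rGL_smul space ?_ (by decide)]
    rw [← gperm_val]
    exact lineVec_ne _

theorem reflections_eq_range : Cfsg.reflectionsOfNorm qPath (1 : ZMod 3) = Set.range reflAt := by
  ext g
  rw [mem_reflectionsOfNorm_iff space one_ne_zero]
  constructor
  · rintro ⟨v, hv, hg⟩
    have h := lineCover_ok
    simp only [lineCoverOK, List.all_eq_true, List.mem_range, Bool.or_eq_true, Bool.and_eq_true,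
      Nat.ble_eq] at h
    rcases h (digCode v) (digCode_lt v) with h | ⟨⟨h1, h2⟩, he⟩
    · simp [digVec_code, hv] at h
    · refine ⟨⟨look 81 placeTab (digCode v) - 1, by omega⟩, Subtype.ext ?_⟩
      rw [reflAt_val, hg]
      rw [digVec_code] at he
      rcases eqLine_iff.1 he with e | e
      · exact (congrArg (rGL qPath) e).symm
      · conv_rhs => rw [e]
        rw [← neg_one_smul (ZMod 3), rGL_smul space
          (lineVec_ne ⟨look 81 placeTab (digCode v) - 1, by omega⟩) (by decide)]
  · rintro ⟨i, rfl⟩
    exact ⟨_, (lineVec_spec i).1, reflAt_val i⟩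

/-- The projective reflection group is the group of the eight permutations. -/
theorem refl_quot : Nonempty (↥(Cfsg.reflectionSubgroup qPath (1 : ZMod 3)) ⧸
    Subgroup.center ↥(Cfsg.reflectionSubgroup qPath (1 : ZMod 3)) ≃*
      ↥(Subgroup.closure (Set.range gperm))) := by
  let el : Fin 351 → ↥(Cfsg.reflectionSubgroup qPath (1 : ZMod 3)) := fun i =>
    ⟨reflAt i, Subgroup.subset_closure (reflections_eq_range ▸ ⟨i, rfl⟩)⟩
  have hel : Subgroup.closure (Set.range el) = ⊤ := closure_range_lift reflAt reflections_eq_range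
  have hp : ∀ k i, el (gidx k) * el i * (el (gidx k))⁻¹ = el (gperm k i) := fun k i =>
    Subtype.ext (reflAt_conj k i)
  have hgen : Subgroup.closure (Set.range (el ∘ gidx)) = ⊤ :=
    (closure_family_eq el (by norm_num) gidx gperm
      (Subgroup.subset_closure ⟨⟨0, by norm_num⟩, congrArg el gidx_zero⟩) hp gperm_parent).trans hel
  exact quot_center_perm el (fun i j h => reflAt_injective (congrArg Subtype.val h)) hel (el ∘ gidx) hgen gperm hp

end Cfsg.Lib.Fischer.Fi23Type
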