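import Cfsg.Agent.Lib.Linear.OrthReflThree
import Cfsg.Agent.Lib.Fischer.Fi23Type.Data

/-!
# The seven-dimensional form of the diagram A7 over three elements and its norm one lines
-/

set_option autoImplicit false
set_option maxRecDepth 100000

namespace Cfsg.Lib.Fischer.Fi23Type

open Cfsg.Lib.Linear.Orth
open scoped Matrix

/-- The form. -/
def qPath (v : Fin 7 → ZMod 3) : ZMod 3 :=
  v 0 * v 0 + v 1 * v 1 + v 2 * v 2 + v 3 * v 3 + v 4 * v 4 + v 5 * v 5 + v 6 * v 6 -
    (v 0 * v 1 + v 1 * v 2 + v 2 * v 3 + v 3 * v 4 + v 4 * v 5 + v 5 * v 6)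

/-- Its polar form. -/
def bPath (v w : Fin 7 → ZMod 3) : ZMod 3 :=
  2 * (v 0 * w 0 + v 1 * w 1 + v 2 * w 2 + v 3 * w 3 + v 4 * w 4 + v 5 * w 5 + v 6 * w 6) -
    (v 0 * w 1 + v 1 * w 0 + v 1 * w 2 + v 2 * w 1 + v 2 * w 3 + v 3 * w 2 + v 3 * w 4 + v 4 * w 3 +
      v 4 * w 5 + v 5 * w 4 + v 5 * w 6 + v 6 * w 5)

/-- The polar form, bilinear. -/
def bLin : LinearMap.BilinForm (ZMod 3) (Fin 7 → ZMod 3) :=
  LinearMap.mk₂ (ZMod 3) bPath (fun a b c => by simp only [bPath, Pi.add_apply]; ring)
    (fun r a b => by simp only [bPath, Pi.smul_apply, smul_eq_mul]; ring)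
    (fun a b c => by simp only [bPath, Pi.add_apply]; ring)
    (fun r a b => by simp only [bPath, Pi.smul_apply, smul_eq_mul]; ring)

/-- The quadratic form. -/
def formPath : QuadraticForm (ZMod 3) (Fin 7 → ZMod 3) :=
  QuadraticMap.ofPolar qPath (fun a v => by simp only [qPath, Pi.smul_apply, smul_eq_mul]; ring)
    (fun x x' y => by simp only [QuadraticMap.polar, qPath, Pi.add_apply]; ring)
    (fun a x y => by simp only [QuadraticMap.polar, qPath, Pi.add_apply, Pi.smul_apply, smul_eq_mul]; ring)

theorem coe_formPath : ⇑formPath = qPath := rfl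

theorem polar_eq (u v : Fin 7 → ZMod 3) : QuadraticMap.polar qPath u v = bPath u v := by
  simp only [QuadraticMap.polar, qPath, bPath, Pi.add_apply]; ring

theorem radical_zero : ∀ v : Fin 7 → ZMod 3, (∀ i, bPath (Pi.single i 1) v = 0) → v = 0 := by
  decide +kernel

theorem space : Space qPath bLin where
  smul c v := by simp only [qPath, Pi.smul_apply, smul_eq_mul]; ring
  polar u v := polar_eq u v
  nondeg v h := radical_zero v fun i => h _

theorem formPath_nondegenerate : (QuadraticMap.polarBilin formPath).Nondegenerate := by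
  have h : ∀ u v, QuadraticMap.polarBilin formPath u v = bPath u v := fun u v => polar_eq u v
  refine ⟨fun x hx => radical_zero x fun i => ?_, fun y hy => radical_zero y fun i => ?_⟩
  · rw [← h, QuadraticMap.polarBilin_apply_apply, QuadraticMap.polar_comm, ← QuadraticMap.polarBilin_apply_apply]
    exact hx _
  · rw [← h]; exact hy _

/-- The Gram matrix of the polar form. -/
def cartan : Matrix (Fin 7) (Fin 7) (ZMod 3) :=
  !![2, -1, 0, 0, 0, 0, 0; -1, 2, -1, 0, 0, 0, 0; 0, -1, 2, -1, 0, 0, 0; 0, 0, -1, 2, -1, 0, 0;
    0, 0, 0, -1, 2, -1, 0; 0, 0, 0, 0, -1, 2, -1; 0, 0, 0, 0, 0, -1, 2]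

theorem gram_ok : ((List.finRange 7).all fun i => (List.finRange 7).all fun j =>
    bPath (Pi.single i 1) (Pi.single j 1) == cartan i j) = true := by decide +kernel

theorem gram (i j : Fin 7) : bPath (Pi.single i 1) (Pi.single j 1) = cartan i j := by
  have h := gram_ok
  simp only [List.all_eq_true, List.mem_finRange, true_implies, beq_iff_eq] at h
  exact h i j

theorem formPath_det : Cfsg.polarGramDet (⇑formPath) = -1 := by
  rw [Cfsg.polarGramDet, coe_formPath]
  have : (Matrix.of fun i j : Fin 7 => QuadraticMap.polar qPath (Pi.single i 1) (Pi.single j 1)) =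
      Matrix.of fun i j : Fin 7 => bPath (Pi.single i 1) (Pi.single j 1) := by
    ext i j; rw [Matrix.of_apply, Matrix.of_apply, polar_eq]
  rw [this, show (Matrix.of fun i j : Fin 7 => bPath (Pi.single i 1) (Pi.single j 1)) = cartan from
    Matrix.ext fun i j => gram i j]
  simp [cartan, Matrix.det_succ_row_zero, Fin.sum_univ_succ, Fin.succAbove]
  try decide

/-- The vector with the given base three digits. -/
def digVec (n : Nat) : Fin 7 → ZMod 3 := fun i => ((n / 3 ^ i.val : Nat) : ZMod 3)

/-- The code of a vector. -/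
def digCode (v : Fin 7 → ZMod 3) : Nat :=
  (v 0).val + 3 * (v 1).val + 9 * (v 2).val + 27 * (v 3).val + 81 * (v 4).val + 243 * (v 5).val + 729 * (v 6).val

/-- The vector at a place. -/
def lineVec (i : Nat) : Fin 7 → ZMod 3 := digVec (look 13 vecTab i)

/-- One more than the place of a vector of norm one. -/
def placeOf (v : Fin 7 → ZMod 3) : Nat := look 81 placeTab (digCode v)

/-- The vector of a generator. -/
def genVec (k : Nat) : Fin 7 → ZMod 3 := lineVec (genIdx.getD k 0)

/-- The reflection in a vector of norm one. -/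
def reflOne (w v : Fin 7 → ZMod 3) : Fin 7 → ZMod 3 := fun i => v i - bPath w v * w i

/-- Equality of vectors, as a boolean. -/
def eqVec (v w : Fin 7 → ZMod 3) : Bool := (List.finRange 7).all fun i => v i == w i

/-- Equality up to sign, as a boolean. -/
def eqLine (v w : Fin 7 → ZMod 3) : Bool := eqVec v w || eqVec v (fun i => - w i)

theorem eqLine_iff {v w : Fin 7 → ZMod 3} : eqLine v w = true ↔ v = w ∨ v = -w := by
  simp only [eqLine, eqVec, Bool.or_eq_true, List.all_eq_true, List.mem_finRange, true_implies, beq_iff_eq]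
  constructor
  · rintro (h | h)
    exacts [Or.inl (funext h), Or.inr (funext h)]
  · rintro (rfl | rfl)
    exacts [Or.inl fun _ => rfl, Or.inr fun _ => rfl]

/-- The vectors are permuted by the generating reflections as listed. -/
def reflPermOK : Bool :=
  (List.range 8).all fun k => (List.range 351).all fun i =>
    eqLine (reflOne (genVec k) (lineVec i)) (lineVec (look 13 (genPerm.getD k []) i))

theorem reflPerm_ok : reflPermOK = true := by decide +kernel

/-- The vectors have norm one and know their places, with either sign. -/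
def lineListOK : Bool :=
  (List.range 351).all fun i => qPath (lineVec i) == 1 && Nat.beq (placeOf (lineVec i)) (i + 1) &&
    Nat.beq (placeOf fun j => - lineVec i j) (i + 1)

theorem lineList_ok : lineListOK = true := by decide +kernel

/-- Every vector of norm one is listed up to sign. -/
def lineCoverOK : Bool :=
  (List.range 2187).all fun n => !(qPath (digVec n) == 1) ||
    (Nat.ble 1 (look 81 placeTab n) && Nat.ble (look 81 placeTab n) 351 &&
      eqLine (digVec n) (lineVec (look 81 placeTab n - 1)))

theorem lineCover_ok : lineCoverOK = true := by decide +kernel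

theorem digVec_code (v : Fin 7 → ZMod 3) : digVec (digCode v) = v := by
  have h : ∀ i, (v i).val < 3 := fun i => ZMod.val_lt _
  have := h 0; have := h 1; have := h 2; have := h 3; have := h 4; have := h 5; have := h 6
  have key : ∀ (p : ℕ) (a : ZMod 3), digCode v / p % 3 = a.val → ((digCode v / p : ℕ) : ZMod 3) = a :=
    fun p a h => by
      rw [← ZMod.natCast_mod, h]
      exact ZMod.natCast_rightInverse a
  have k0 : digCode v / 1 % 3 = (v 0).val := by simp only [digCode]; omega
  have k1 : digCode v / 3 % 3 = (v 1).val := by simp only [digCode]; omega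
  have k2 : digCode v / 9 % 3 = (v 2).val := by simp only [digCode]; omega
  have k3 : digCode v / 27 % 3 = (v 3).val := by simp only [digCode]; omega
  have k4 : digCode v / 81 % 3 = (v 4).val := by simp only [digCode]; omega
  have k5 : digCode v / 243 % 3 = (v 5).val := by simp only [digCode]; omega
  have k6 : digCode v / 729 % 3 = (v 6).val := by simp only [digCode]; omega
  funext i
  fin_cases i
  exacts [key 1 _ k0, key 3 _ k1, key 9 _ k2, key 27 _ k3, key 81 _ k4, key 243 _ k5, key 729 _ k6]

theorem digCode_lt (v : Fin 7 → ZMod 3) : digCode v < 2187 := by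
  have h : ∀ i, (v i).val < 3 := fun i => ZMod.val_lt _
  have := h 0; have := h 1; have := h 2; have := h 3; have := h 4; have := h 5; have := h 6
  simp only [digCode]; omega

end Cfsg.Lib.Fischer.Fi23Type
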